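import Cfsg.Agent.MonsterX.HNFive

/-!
# The Harada-Norton group as a subgroup of the group of the model (helper850)

The same as `MonsterX.HNFive.five`, with the isomorphism onto the presented group.
-/

set_option autoImplicit false

namespace Cfsg.Agent.H850.MonHN

open Cfsg.Agent.MonsterX Cfsg.Agent.MonsterX.Space Cfsg.Agent.MonsterX.Conc Cfsg.Agent.MonsterX.Model
open Cfsg.Agent.MonsterX.InstData Cfsg.Agent.MonsterX.BaseVec Cfsg.Agent.MonsterX.HNWord
open Cfsg.Agent.MonsterX.HNAbs Cfsg.Agent.MonsterX.WordSub Cfsg.Agent.MonsterX.WordRels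

variable {Γ : Type} [Group Γ] {G : Subgroup Γ}

/-- Elements satisfying the relators of the presented simple group `HN` generate a copy of it. -/
theorem hn_sub (hs : Cfsg.IsHN Cfsg.Spor.HN) (f : Cfsg.Spor.HN.Gen → Γ) (hf : ∀ a, f a ∈ G)
    (h : ∀ r ∈ hnWs, ev f r = 1) (hne : ∃ a, f a ≠ 1) :
    ∃ K : Subgroup G, Nonempty (K ≃* Cfsg.Spor.HN) := by
  let f' : Cfsg.Spor.HN.Gen → G := fun a => ⟨f a, hf a⟩
  have h' : ∀ r ∈ hnWs, ev f' r = 1 := fun r hr => WordsCodeM.ev_sub (h r hr)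
  obtain ⟨K, ⟨e⟩, -⟩ := exists_subgroup Cfsg.Spor.HN.edges Cfsg.Spor.HN.extra hs.1 f' (by
    rintro r (hr | hr)
    · exact cox_lift _ f' (fun x hx => absurd hx (by simp [Cfsg.Spor.coxNodes, Cfsg.Spor.HN.edges])) r hr
    · exact lift_extra hn_extra f' h' r hr) (by
        obtain ⟨a, ha⟩ := hne
        exact ⟨a, fun h1 => ha (congrArg Subtype.val h1)⟩)
  exact ⟨K, ⟨e.symm⟩⟩

variable {K₀ : Type} [Group K₀]

/-- **Harada-Norton in the group of the model.** -/
theorem part (P : Pack K₀) (hT : MTrans M) (hs : Cfsg.IsHN Cfsg.Spor.HN) :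
    ∃ K : Subgroup Conc.G, Nonempty (K ≃* Cfsg.Spor.HN) := by
  have c := HNAxes.config P
  rw [HNFive.op_gX, HNFive.op_gY, HNFive.op_gZ] at c
  have hG := P.hG
  have hR := P.hR
  have hL := P.hL
  have hO := P.hO
  have hl := P.lines
  refine hn_sub hs (HNPart.gen _) ?_ (HNRelEq.rels hG hR hL hl (HNPart.gen _) rfl rfl rfl
    (c.rel_t5 hG hR hL hO hT) (c.rel_tx hG hR hL hO hT) (c.rel_ty hG hR hL hO hT) (c.rel_zt hG hR hL hO hT))
    ⟨.t, c.t_ne hG hR hL hO hT⟩
  intro a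
  cases a with
  | x => exact c.x_mem
  | y => exact C_le_G HNRelEq.Y_mem_C
  | z => exact c.z_mem
  | t => exact tt_mem hG hR c.v_mem

end Cfsg.Agent.H850.MonHN
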